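import Groth.Prelude.Def_DiffOp
import Mathlib.RingTheory.Ideal.Maps
import Mathlib.RingTheory.Ideal.Operations
import Mathlib.Algebra.BigOperators.Fin
import Mathlib.Data.Fintype.BigOperators
import Mathlib.RingTheory.Adjoin.Basic
import Mathlib.RingTheory.TensorProduct.Maps

/-! Calculus of differential operators through the action of `T ⊗[A] B` on linear maps. -/

namespace Groth.Agent.DiffOpCalc

open scoped TensorProduct BigOperators
open Diff16

universe u v

section Elementary

variable {A B : Type u} [CommRing A] [CommRing B] [Algebra A B]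
variable {M N P : Type v} [AddCommGroup M] [Module A M] [Module B M] [IsScalarTower A B M]
  [AddCommGroup N] [Module A N] [Module B N] [IsScalarTower A B N]
  [AddCommGroup P] [Module A P] [Module B P] [IsScalarTower A B P]

@[simp]
theorem commutator_apply (D : M →ₗ[A] N) (b : B) (m : M) :
    commutator A B M N D b m = D (b • m) - b • D m := rfl

theorem le_zero_iff (D : M →ₗ[A] N) :
    IsDiffOpLE A B M N 0 D ↔ ∀ (b : B) (m : M), D (b • m) = b • D m := Iff.rfl

theorem le_succ_iff (n : ℕ) (D : M →ₗ[A] N) :
    IsDiffOpLE A B M N (n + 1) D ↔ ∀ b : B, IsDiffOpLE A B M N n (commutator A B M N D b) := Iff.rfl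

theorem le_zero_fun : ∀ n, IsDiffOpLE A B M N n (0 : M →ₗ[A] N)
  | 0 => fun b m => by simp
  | n + 1 => fun b => by
    have h : commutator A B M N (0 : M →ₗ[A] N) b = 0 := by ext m; simp
    rw [h]; exact le_zero_fun n

theorem le_add : ∀ {n} {D D' : M →ₗ[A] N},
    IsDiffOpLE A B M N n D → IsDiffOpLE A B M N n D' → IsDiffOpLE A B M N n (D + D')
  | 0, D, D', h, h' => fun b m => by simp [h b m, h' b m, smul_add]
  | n + 1, D, D', h, h' => fun b => by
    have e : commutator A B M N (D + D') b = commutator A B M N D b + commutator A B M N D' b := by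
      ext m; simp [smul_add]; abel
    rw [e]; exact le_add (h b) (h' b)

theorem le_mono_succ : ∀ {n} {D : M →ₗ[A] N},
    IsDiffOpLE A B M N n D → IsDiffOpLE A B M N (n + 1) D
  | 0, D, h => fun b => by
    have e : commutator A B M N D b = 0 := by ext m; simp [h b m]
    rw [e]; exact le_zero_fun 0
  | n + 1, D, h => fun b => le_mono_succ (h b)

theorem le_mono {n n' : ℕ} (hn : n ≤ n') {D : M →ₗ[A] N} (h : IsDiffOpLE A B M N n D) :
    IsDiffOpLE A B M N n' D := by
  induction hn with
  | refl => exact h
  | step _ ih => exact le_mono_succ ih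

theorem le_sum {ι : Type*} (s : Finset ι) {n : ℕ} {D : ι → (M →ₗ[A] N)}
    (h : ∀ i ∈ s, IsDiffOpLE A B M N n (D i)) : IsDiffOpLE A B M N n (∑ i ∈ s, D i) := by
  classical
  induction s using Finset.induction with
  | empty => simpa using le_zero_fun n
  | insert a s ha ih =>
    rw [Finset.sum_insert ha]
    exact le_add (h a (by simp)) (ih fun i hi => h i (by simp [hi]))

theorem le_smul : ∀ {n} {D : M →ₗ[A] N} (c : B),
    IsDiffOpLE A B M N n D → IsDiffOpLE A B M N n (c • D)
  | 0, D, c, h => fun b m => by simp [h b m, smul_comm c b]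
  | n + 1, D, c, h => fun b => by
    have e : commutator A B M N (c • D) b = c • commutator A B M N D b := by
      ext m; simp [smul_sub, smul_comm c b]
    rw [e]; exact le_smul c (h b)

theorem le_of_linear (n : ℕ) (f : M →ₗ[B] N) :
    IsDiffOpLE A B M N n (f.restrictScalars A) :=
  le_mono (Nat.zero_le n) fun b m => f.map_smul b m

theorem le_comp : ∀ {n' n : ℕ} {D' : N →ₗ[A] P} {D : M →ₗ[A] N},
    IsDiffOpLE A B N P n' D' → IsDiffOpLE A B M N n D → IsDiffOpLE A B M P (n + n') (D' ∘ₗ D) := by
  intro n'
  induction n' with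
  | zero =>
    intro n
    induction n with
    | zero => intro D' D h' h b m; simp [h b m, h' b (D m)]
    | succ n ih =>
      intro D' D h' h b
      have e : commutator A B M P (D' ∘ₗ D) b = D' ∘ₗ commutator A B M N D b := by
        ext m; simp [h' b (D m)]
      rw [e]; exact ih h' (h b)
  | succ n' ih' =>
    intro n
    induction n with
    | zero =>
      intro D' D h' h
      rw [Nat.zero_add]
      intro b
      have e : commutator A B M P (D' ∘ₗ D) b = commutator A B N P D' b ∘ₗ D := by
        ext m; simp [h b m]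
      rw [e]
      simpa using ih' (h' b) h
    | succ n ih =>
      intro D' D h' h b
      show IsDiffOpLE A B M P (n + 1 + n') (commutator A B M P (D' ∘ₗ D) b)
      have e : commutator A B M P (D' ∘ₗ D) b =
          commutator A B N P D' b ∘ₗ D + D' ∘ₗ commutator A B M N D b := by
        ext m; simp
      have h₁ : IsDiffOpLE A B M P ((n + 1) + n') (commutator A B N P D' b ∘ₗ D) := ih' (h' b) h
      have h₂ : IsDiffOpLE A B M P (n + (n' + 1)) (D' ∘ₗ commutator A B M N D b) := ih h' (h b)
      have hn : (n + 1) + n' = n + (n' + 1) := by omega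
      rw [← hn] at h₂
      rw [e]; exact le_add h₁ h₂

theorem le_linear_comp {n : ℕ} {D : M →ₗ[A] N} (g : N →ₗ[B] P)
    (h : IsDiffOpLE A B M N n D) : IsDiffOpLE A B M P n (g.restrictScalars A ∘ₗ D) :=
  le_comp (le_of_linear 0 g) h

theorem le_comp_linear {n : ℕ} {D : N →ₗ[A] P} (g : M →ₗ[B] N)
    (h : IsDiffOpLE A B N P n D) : IsDiffOpLE A B M P n (D ∘ₗ g.restrictScalars A) := by
  simpa using le_comp h (le_of_linear 0 g)

theorem le_succ_of_generators (s : Set B) (hs : Algebra.adjoin A s = ⊤) (n : ℕ) (D : M →ₗ[A] N)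
    (hD : ∀ g ∈ s, IsDiffOpLE A B M N n (commutator A B M N D g)) :
    IsDiffOpLE A B M N (n + 1) D := by
  intro b
  have hb : b ∈ Algebra.adjoin A s := by rw [hs]; trivial
  induction hb using Algebra.adjoin_induction with
  | mem g hg => exact hD g hg
  | algebraMap a =>
    have e : commutator A B M N D (algebraMap A B a) = 0 := by
      ext m; simp [algebraMap_smul]
    rw [e]; exact le_zero_fun n
  | add x y _ _ hx hy =>
    have e : commutator A B M N D (x + y) = commutator A B M N D x + commutator A B M N D y := by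
      ext m; simp [add_smul]; abel
    rw [e]; exact le_add hx hy
  | mul x y _ _ hx hy =>
    have e : commutator A B M N D (x * y) =
        commutator A B M N D x ∘ₗ (LinearMap.lsmul B M y).restrictScalars A +
          x • commutator A B M N D y := by
      ext m; simp [mul_smul, smul_sub]
    rw [e]; exact le_add (le_comp_linear _ hx) (le_smul x hy)

end Elementary

section Restrict

variable {A B T : Type u} [CommRing A] [CommRing B] [CommRing T] [Algebra A B] [Algebra A T]
  [Algebra B T] [IsScalarTower A B T]
variable {M N : Type v} [AddCommGroup M] [Module A M] [Module B M] [IsScalarTower A B M]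
  [Module T M] [IsScalarTower A T M] [IsScalarTower B T M]
  [AddCommGroup N] [Module A N] [Module B N] [IsScalarTower A B N]
  [Module T N] [IsScalarTower A T N] [IsScalarTower B T N]

theorem le_restrict : ∀ {n} {D : M →ₗ[A] N}, IsDiffOpLE A T M N n D → IsDiffOpLE A B M N n D
  | 0, D, h => fun b m => by
    rw [← algebraMap_smul T b m, ← algebraMap_smul T b (D m)]; exact h _ m
  | n + 1, D, h => fun b => by
    have e : commutator A B M N D b = commutator A T M N D (algebraMap B T b) := by
      ext m; simp [algebraMap_smul]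
    rw [e]; exact le_restrict (h _)

end Restrict

section Action

variable (A B T : Type u) [CommRing A] [CommRing B] [CommRing T] [Algebra A B] [Algebra A T]
variable (M N : Type v) [AddCommGroup M] [Module A M] [Module B M] [IsScalarTower A B M]
  [AddCommGroup N] [Module A N] [Module T N] [IsScalarTower A T N]

/-- Left multiplication of linear maps by `T`. -/
noncomputable def actL : T →ₐ[A] Module.End A (M →ₗ[A] N) :=
  Algebra.lsmul A A (M →ₗ[A] N)

/-- Right multiplication of linear maps by `B`. -/
noncomputable def actR : B →ₐ[A] Module.End A (M →ₗ[A] N) where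
  toFun c := LinearMap.lcomp A N ((LinearMap.lsmul B M c).restrictScalars A)
  map_one' := by ext D m; simp
  map_mul' c d := by ext D m; simp [mul_smul, smul_comm c d]
  map_zero' := by ext D m; simp
  map_add' c d := by ext D m; simp [add_smul]
  commutes' a := by ext D m; simp [algebraMap_smul, Module.algebraMap_end_apply]

/-- The action of `T ⊗[A] B` on `M →ₗ[A] N`. -/
noncomputable def act : T ⊗[A] B →ₐ[A] Module.End A (M →ₗ[A] N) :=
  Algebra.TensorProduct.lift (actL A T M N) (actR A B M N)
    fun t c => by
      change actL A T M N t * actR A B M N c = actR A B M N c * actL A T M N t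
      ext D m; simp [actL, actR]

@[simp]
theorem act_tmul (t : T) (c : B) (D : M →ₗ[A] N) (m : M) :
    act A B T M N (t ⊗ₜ[A] c) D m = t • D (c • m) := by
  simp [act, actL, actR]

end Action

section Diagonal

variable (A B T : Type u) [CommRing A] [CommRing B] [CommRing T] [Algebra A B] [Algebra A T]
  [Algebra B T] [IsScalarTower A B T]

/-- The element `1 ⊗ c - c ⊗ 1`. -/
noncomputable def del (c : B) : T ⊗[A] B :=
  (1 : T) ⊗ₜ[A] c - algebraMap B T c ⊗ₜ[A] (1 : B)

/-- The multiplication map `T ⊗[A] B → T`. -/
noncomputable def mulMap : T ⊗[A] B →ₐ[A] T :=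
  Algebra.TensorProduct.lift (AlgHom.id A T) (IsScalarTower.toAlgHom A B T)
    fun _ _ => Commute.all _ _

@[simp]
theorem mulMap_tmul (t : T) (c : B) : mulMap A B T (t ⊗ₜ[A] c) = t * algebraMap B T c := by
  simp [mulMap]

/-- The ideal of the diagonal. -/
noncomputable def diag : Ideal (T ⊗[A] B) := RingHom.ker (mulMap A B T)

theorem del_mem (c : B) : del A B T c ∈ diag A B T := by
  simp [diag, del]

theorem sub_tmul_mem_span (x : T ⊗[A] B) :
    x - mulMap A B T x ⊗ₜ[A] (1 : B) ∈ Ideal.span (Set.range (del A B T)) := by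
  induction x using TensorProduct.induction_on with
  | zero => simp
  | tmul t c =>
    have e : t ⊗ₜ[A] c - mulMap A B T (t ⊗ₜ[A] c) ⊗ₜ[A] (1 : B) =
        (t ⊗ₜ[A] (1 : B)) * del A B T c := by
      simp [del, mul_sub, Algebra.TensorProduct.tmul_mul_tmul]
    rw [e]; exact Ideal.mul_mem_left _ _ (Ideal.subset_span ⟨c, rfl⟩)
  | add x y hx hy =>
    have e : x + y - mulMap A B T (x + y) ⊗ₜ[A] (1 : B) =
        (x - mulMap A B T x ⊗ₜ[A] (1 : B)) + (y - mulMap A B T y ⊗ₜ[A] (1 : B)) := by
      rw [map_add, TensorProduct.add_tmul]; abel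
    rw [e]; exact add_mem hx hy

theorem diag_eq_span : diag A B T = Ideal.span (Set.range (del A B T)) := by
  refine le_antisymm (fun x hx => ?_) (Ideal.span_le.mpr ?_)
  · have := sub_tmul_mem_span A B T x
    rwa [show mulMap A B T x = 0 from hx, TensorProduct.zero_tmul, sub_zero] at this
  · rintro _ ⟨c, rfl⟩; exact del_mem A B T c

variable {A B T}
variable {M N : Type v} [AddCommGroup M] [Module A M] [Module B M] [IsScalarTower A B M]
  [AddCommGroup N] [Module A N] [Module B N] [IsScalarTower A B N]
  [Module T N] [IsScalarTower A T N] [IsScalarTower B T N]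

theorem act_del (c : B) (D : M →ₗ[A] N) :
    act A B T M N (del A B T c) D = commutator A B M N D c := by
  ext m; simp [del, map_sub, algebraMap_smul]

theorem act_mul_del (x : T ⊗[A] B) (c : B) (D : M →ₗ[A] N) :
    act A B T M N (x * del A B T c) D = act A B T M N x (commutator A B M N D c) := by
  rw [map_mul, Module.End.mul_apply, act_del]

theorem le_iff_act_pow_eq_zero : ∀ (n : ℕ) (D : M →ₗ[A] N),
    IsDiffOpLE A B M N n D ↔ ∀ x ∈ (diag A B T) ^ (n + 1), act A B T M N x D = 0 := by
  intro n
  induction n with
  | zero =>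
    intro D
    rw [zero_add, pow_one, diag_eq_span]
    constructor
    · intro h x hx
      induction hx using Submodule.span_induction with
      | mem y hy => obtain ⟨c, rfl⟩ := hy; rw [act_del]; ext m; simp [h c m]
      | zero => simp
      | add y z _ _ hy hz => simp [map_add, hy, hz]
      | smul a y _ hy => rw [smul_eq_mul, map_mul, Module.End.mul_apply, hy, map_zero]
    · intro h c m
      have := congrArg (fun f => f m) (h _ (Ideal.subset_span ⟨c, rfl⟩))
      rw [act_del] at this
      simpa [sub_eq_zero] using this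
  | succ n ih =>
    intro D
    constructor
    · intro h x hx
      rw [pow_succ] at hx
      refine Submodule.mul_induction_on hx (fun y hy z hz => ?_) (fun y z hy hz => ?_)
      ·
        rw [diag_eq_span] at hz
        induction hz using Submodule.span_induction with
        | mem w hw => obtain ⟨c, rfl⟩ := hw; rw [act_mul_del]; exact (ih _).1 (h c) y hy
        | zero => simp
        | add w w' _ _ hw hw' => rw [mul_add, map_add, LinearMap.add_apply, hw, hw', add_zero]
        | smul a w _ hw =>
          rw [smul_eq_mul, mul_left_comm, map_mul, Module.End.mul_apply, hw, map_zero]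
      · simp [map_add, hy, hz]
    · intro h c
      rw [ih]
      intro x hx
      rw [← act_mul_del]
      apply h
      rw [pow_succ]
      exact Ideal.mul_mem_mul hx (del_mem A B T c)

theorem le_iff_prod_del (n : ℕ) (D : M →ₗ[A] N) :
    IsDiffOpLE A B M N n D ↔
      ∀ b : Fin (n + 1) → B, act A B T M N (∏ i, del A B T (b i)) D = 0 := by
  induction n generalizing D with
  | zero =>
    constructor
    · intro h b; rw [Fin.prod_univ_one, act_del]; ext m; simp [h (b 0) m]
    · intro h c m
      have := h fun _ => c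
      rw [Fin.prod_univ_succ, Fin.prod_univ_zero, mul_one, act_del] at this
      simpa [sub_eq_zero] using LinearMap.congr_fun this m
  | succ n ih =>
    constructor
    · intro h b
      rw [Fin.prod_univ_succ, mul_comm, act_mul_del]
      exact (ih _).1 (h _) _
    · intro h c
      rw [ih]
      intro b
      have := h (Fin.cons c b)
      rw [Fin.prod_univ_succ, mul_comm, act_mul_del] at this
      simpa using this

end Diagonal

section Same

variable (A B : Type u) [CommRing A] [CommRing B] [Algebra A B]
variable (M N : Type v) [AddCommGroup M] [Module A M] [Module B M] [IsScalarTower A B M]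
  [AddCommGroup N] [Module A N] [Module B N] [IsScalarTower A B N]

theorem act_prod_del {n : ℕ} (b : Fin n → B) (D : M →ₗ[A] N) (t : M) :
    act A B B M N (∏ i, del A B B (b i)) D t =
      ∑ H : Finset (Fin n), ((-1 : ℤ) ^ H.card) • ((∏ i ∈ H, b i) • D ((∏ i ∈ Hᶜ, b i) • t)) := by
  have e : ∀ i, del A B B (b i) =
      -(b i ⊗ₜ[A] (1 : B)) + (1 : B) ⊗ₜ[A] b i := fun i => by
    simp [del, sub_eq_neg_add]
  simp only [e, Finset.prod_add, map_sum, LinearMap.sum_apply, Finset.powerset_univ]
  refine Finset.sum_congr rfl fun H _ => ?_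
  rw [Finset.prod_neg, mul_assoc]
  have h1 : (∏ i ∈ H, (b i ⊗ₜ[A] (1 : B))) = (∏ i ∈ H, b i) ⊗ₜ[A] (1 : B) :=
    (map_prod (Algebra.TensorProduct.includeLeft (R := A) (S := A) (A := B) (B := B)) b H).symm
  have h2 : (∏ i ∈ Finset.univ \ H, ((1 : B) ⊗ₜ[A] b i)) = (1 : B) ⊗ₜ[A] (∏ i ∈ Hᶜ, b i) :=
    (map_prod (Algebra.TensorProduct.includeRight (R := A) (A := B) (B := B)) b Hᶜ).symm
  rw [h1, h2, Algebra.TensorProduct.tmul_mul_tmul, mul_one, one_mul]
  have hz : ∀ z : B ⊗[A] B, (-1 : B ⊗[A] B) ^ H.card * z = ((-1 : ℤ) ^ H.card) • z := fun z => by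
    simp [zsmul_eq_mul]
  rw [hz, map_zsmul, LinearMap.smul_apply, LinearMap.smul_apply, act_tmul]

theorem le_iff_alternating_sum (n : ℕ) (D : M →ₗ[A] N) :
    IsDiffOpLE A B M N n D ↔
      ∀ (b : Fin (n + 1) → B) (t : M),
        ∑ H : Finset (Fin (n + 1)), ((-1 : ℤ) ^ H.card) • ((∏ i ∈ H, b i) • D ((∏ i ∈ Hᶜ, b i) • t)) = 0 := by
  rw [le_iff_prod_del (T := B)]
  simp only [← act_prod_del, LinearMap.ext_iff, LinearMap.zero_apply]

end Same

end Groth.Agent.DiffOpCalc
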